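import Cfsg.Agent.Lib.Helper82.Ortho
import Cfsg.Agent.Lib.Helper19.IndChar

set_option autoImplicit false

namespace Cfsg.Agent.Lib.Helper82

open Cfsg
open scoped ComplexConjugate
open Cfsg.Agent.Lib.Helper20

section

variable {G : Type*} [Group G]

/-- A character of degree zero vanishes. -/
theorem isChar_eq_zero_of_one_eq_zero {ψ : G → ℂ} (hψ : IsCharacter G ψ) (h : ψ 1 = 0) : ψ = 0 := by
  obtain ⟨n, ρ, rfl⟩ := hψ
  rw [Representation.char_one] at h
  have hn : n = 0 := by simpa using h
  subst hn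
  funext g
  have : ρ g = 0 := Subsingleton.elim _ _
  simp [Representation.character, this]

theorem charDegree_add {φ ψ : G → ℂ} (hφ : IsCharacter G φ) (hψ : IsCharacter G ψ) :
    charDegree (φ + ψ) = charDegree φ + charDegree ψ := by
  have h := isChar_one_eq (isCharacter_add hφ hψ)
  rw [Pi.add_apply, isChar_one_eq hφ, isChar_one_eq hψ] at h
  exact_mod_cast h.symm

variable [Fintype G]

/-- A constituent splits off. -/
theorem exists_add_of_inner_ne_zero {φ χ : G → ℂ} (hφ : IsCharacter G φ) (hχ : IsIrrCharacter G χ)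
    (h : classInner φ χ ≠ 0) : ∃ ψ : G → ℂ, IsCharacter G ψ ∧ φ = χ + ψ := by
  classical
  obtain ⟨l, rfl⟩ := exists_multiset_of_isCharacter hφ
  rw [classInner_multiset_sum l ⟨χ, hχ⟩] at h
  have hmem : (⟨χ, hχ⟩ : IrrCharacter G) ∈ l := by
    rw [← Multiset.count_pos]
    exact Nat.pos_of_ne_zero (by exact_mod_cast h)
  obtain ⟨t, rfl⟩ := Multiset.exists_cons_of_mem hmem
  exact ⟨_, isCharacter_multiset_sum t, by simp⟩

/-- A nonzero character has an irreducible constituent. -/
theorem exists_irr_constituent {φ : G → ℂ} (hφ : IsCharacter G φ) (h : φ 1 ≠ 0) :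
    ∃ χ : IrrCharacter G, classInner φ (χ : G → ℂ) ≠ 0 := by
  classical
  obtain ⟨l, rfl⟩ := exists_multiset_of_isCharacter hφ
  rcases Multiset.empty_or_exists_mem l with h0 | ⟨χ, hχ⟩
  · subst h0
    simp at h
  · refine ⟨χ, ?_⟩
    rw [classInner_multiset_sum l χ]
    exact_mod_cast (Multiset.count_pos.2 hχ).ne'

/-- A character containing the irreducible `χ` and of degree at most that of `χ` equals `χ`. -/
theorem eq_of_constituent_of_degree_le {φ χ : G → ℂ} (hφ : IsCharacter G φ)
    (hχ : IsIrrCharacter G χ) (h : classInner φ χ ≠ 0) (hd : charDegree φ ≤ charDegree χ) :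
    φ = χ := by
  obtain ⟨ψ, hψ, rfl⟩ := exists_add_of_inner_ne_zero hφ hχ h
  rw [charDegree_add (isIrr_isChar hχ) hψ] at hd
  have h0 : charDegree ψ = 0 := by omega
  have h1 : ψ 1 = 0 := by rw [isChar_one_eq hψ, h0]; simp
  rw [isChar_eq_zero_of_one_eq_zero hψ h1, add_zero]

/-- A constituent has degree at most the degree of the character. -/
theorem degree_le_of_constituent {φ χ : G → ℂ} (hφ : IsCharacter G φ)
    (hχ : IsIrrCharacter G χ) (h : classInner φ χ ≠ 0) : charDegree χ ≤ charDegree φ := by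
  obtain ⟨ψ, hψ, rfl⟩ := exists_add_of_inner_ne_zero hφ hχ h
  rw [charDegree_add (isIrr_isChar hχ) hψ]
  omega

/-- Degree of an induced function. -/
theorem indFun_one (H : Subgroup G) (θ : H → ℂ) : indFun H θ 1 = (H.index : ℂ) * θ 1 := by
  rw [Cfsg.Agent.Lib.Helper19.indFun_apply]
  have : ∀ x : G, extendByZero H θ (x⁻¹ * 1 * x) = θ 1 := by
    intro x
    have h1 : x⁻¹ * 1 * x = ((1 : H) : G) := by simp
    rw [h1, Cfsg.Agent.Lib.Helper19.extendByZero_coe]
  simp only [this, Finset.sum_const, Finset.card_univ, nsmul_eq_mul, ← Nat.card_eq_fintype_card]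
  rw [Cfsg.Agent.Lib.Helper19.index_eq_div]
  ring

theorem charDegree_indFun (H : Subgroup G) {θ : H → ℂ} (hθ : IsCharacter H θ) :
    charDegree (indFun H θ) = H.index * charDegree θ := by
  have h := isChar_one_eq (Cfsg.Agent.Lib.Helper19.isCharacter_indFun H θ hθ)
  rw [indFun_one, isChar_one_eq hθ] at h
  exact_mod_cast h.symm

/-- Frobenius reciprocity, constituent form. -/
theorem inner_indFun_ne_zero (H : Subgroup G) [Fintype H] {θ : H → ℂ} {χ : G → ℂ}
    (hχ : IsCharacter G χ) (h : classInner (fun x : H => χ x) θ ≠ 0) :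
    classInner (indFun H θ) χ ≠ 0 := by
  rw [Cfsg.Agent.Lib.Helper19.frobenius_reciprocity H θ χ (isChar_isClassFunction hχ),
    ← classInner_conj_symm]
  simpa using h

end

end Cfsg.Agent.Lib.Helper82
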