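import Mathlib
import Cfsg.Prelude.Def_Solvable

set_option autoImplicit false

namespace Cfsg.Agent.Lib.Helper82

open Cfsg
open scoped Pointwise

section

variable {G : Type*} [Group G] [Finite G]

/-- In a semidirect product `K ⋊ H` with `H` acting without fixed points, every element outside `K`
lies in a `K`-conjugate of `H`. -/
theorem exists_conj_mem_of_not_mem (K H : Subgroup G) [K.Normal]
    (hc : Subgroup.IsComplement' K H)
    (hfpf : ∀ h ∈ H, h ≠ 1 → ∀ k ∈ K, h * k = k * h → k = 1) {x : G} (hx : x ∉ K) :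
    ∃ w ∈ K, w * x * w⁻¹ ∈ H := by
  obtain ⟨⟨k, h⟩, hkh⟩ := hc.2 x
  simp only at hkh
  have hh1 : (h : G) ≠ 1 := by
    intro h1
    apply hx
    rw [← hkh, h1, mul_one]
    exact k.2
  let f : K → K := fun w => ⟨(w : G)⁻¹ * ((h : G) * w * (h : G)⁻¹),
    K.mul_mem (K.inv_mem w.2) (‹K.Normal›.conj_mem _ w.2 _)⟩
  have hinj : Function.Injective f := by
    intro w v hwv
    have h1 : (w : G)⁻¹ * ((h : G) * w * (h : G)⁻¹) = (v : G)⁻¹ * ((h : G) * v * (h : G)⁻¹) :=
      congrArg Subtype.val hwv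
    have h2 : (h : G) * ((v : G) * (w : G)⁻¹) = ((v : G) * (w : G)⁻¹) * (h : G) := by
      have e1 : (h : G) * ((v : G) * (w : G)⁻¹) =
          (v : G) * ((v : G)⁻¹ * ((h : G) * v * (h : G)⁻¹)) * (h : G) * (w : G)⁻¹ := by group
      rw [e1, ← h1]
      group
    have h3 := hfpf h h.2 hh1 _ (K.mul_mem v.2 (K.inv_mem w.2)) h2
    apply Subtype.ext
    exact (mul_inv_eq_one.1 h3).symm
  obtain ⟨w, hw⟩ := (Finite.injective_iff_surjective.1 hinj) k
  refine ⟨w, w.2, ?_⟩
  have h1 : (w : G)⁻¹ * ((h : G) * w * (h : G)⁻¹) = k := congrArg Subtype.val hw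
  have h2 : (w : G) * x * (w : G)⁻¹ = h := by
    rw [← hkh, ← h1]; group
  rw [h2]
  exact h.2

/-- The Frobenius kernel (as a set) of a semidirect product `K ⋊ H` with fixed-point-free action
is `K`. -/
theorem frobeniusKernel_eq (K H : Subgroup G) [K.Normal] (hc : Subgroup.IsComplement' K H)
    (hfpf : ∀ h ∈ H, h ≠ 1 → ∀ k ∈ K, h * k = k * h → k = 1) :
    frobeniusKernel H = (K : Set G) := by
  ext x
  constructor
  · rintro (rfl | hx)
    · exact K.one_mem
    · by_contra hxK
      obtain ⟨w, -, hw⟩ := exists_conj_mem_of_not_mem K H hc hfpf hxK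
      apply hx w⁻¹
      have h1 := Subgroup.smul_mem_pointwise_smul _ (MulAut.conj w⁻¹) H hw
      have h2 : MulAut.conj w⁻¹ • (w * x * w⁻¹) = x := by
        rw [MulAut.smul_def, MulAut.conj_apply]; group
      rwa [h2] at h1
  · intro hxK
    by_cases hx1 : x = 1
    · exact Or.inl hx1
    · right
      intro g hg
      apply hx1
      rw [Subgroup.mem_pointwise_smul_iff_inv_smul_mem] at hg
      have h1 : (MulAut.conj g)⁻¹ • x = g⁻¹ * x * g := by
        rw [← map_inv, MulAut.smul_def, MulAut.conj_apply, inv_inv]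
      rw [h1] at hg
      have h2 : g⁻¹ * x * g ∈ K := by
        have := ‹K.Normal›.conj_mem x hxK g⁻¹
        rwa [inv_inv] at this
      have h3 : g⁻¹ * x * g ∈ K ⊓ H := ⟨h2, hg⟩
      rw [hc.disjoint.eq_bot, Subgroup.mem_bot] at h3
      have : x = g * (g⁻¹ * x * g) * g⁻¹ := by group
      rw [this, h3]; group

end

end Cfsg.Agent.Lib.Helper82
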