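import Cfsg.Agent.Lib.Helper82.StructConst
import Cfsg.Agent.Lib.Helper78.AFT

set_option autoImplicit false

namespace Cfsg.Agent.Lib.Helper82

open Cfsg
open scoped ComplexConjugate

/-- The value of a character at an element of order at most two. -/
theorem isChar_invol_value {G : Type*} [Group G] {χ : G → ℂ} (hχ : IsCharacter G χ) {t : G}
    (ht : t * t = 1) : ∃ a : ℕ, χ t = 2 * (a : ℂ) - χ 1 := by
  obtain ⟨n, ρ, rfl⟩ := hχ
  set e : (Fin n → ℂ) →ₗ[ℂ] (Fin n → ℂ) := (1 / 2 : ℂ) • (1 + ρ t) with he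
  have htt : ρ t * ρ t = 1 := by rw [← map_mul, ht, map_one]
  have hid : IsIdempotentElem e := by
    unfold IsIdempotentElem
    rw [he, smul_mul_smul_comm, mul_add, add_mul, add_mul, htt, one_mul, one_mul, mul_one]
    have : (1 : (Fin n → ℂ) →ₗ[ℂ] (Fin n → ℂ)) + ρ t + (ρ t + 1) = (2 : ℂ) • (1 + ρ t) := by
      rw [two_smul]; abel
    rw [this, smul_smul]
    norm_num
  have htr := (LinearMap.IsIdempotentElem.isProj_range e hid).trace
  refine ⟨Module.finrank ℂ (LinearMap.range e), ?_⟩
  rw [← htr, he, map_smul, map_add]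
  simp only [Representation.character, map_one]
  rw [smul_eq_mul]
  ring

/-- "Even" algebraic integers. -/
def EvenInt (x : ℂ) : Prop := ∃ A : ℂ, IsIntegral ℤ A ∧ x = 2 * A

theorem EvenInt.add {x y : ℂ} (hx : EvenInt x) (hy : EvenInt y) : EvenInt (x + y) := by
  obtain ⟨A, hA, rfl⟩ := hx
  obtain ⟨B, hB, rfl⟩ := hy
  exact ⟨A + B, hA.add hB, by ring⟩

theorem EvenInt.sub {x y : ℂ} (hx : EvenInt x) (hy : EvenInt y) : EvenInt (x - y) := by
  obtain ⟨A, hA, rfl⟩ := hx
  obtain ⟨B, hB, rfl⟩ := hy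
  exact ⟨A - B, hA.sub hB, by ring⟩

theorem EvenInt.zero : EvenInt 0 := ⟨0, isIntegral_zero, by ring⟩

theorem EvenInt.sum {ι : Type*} (s : Finset ι) (f : ι → ℂ) (h : ∀ i ∈ s, EvenInt (f i)) :
    EvenInt (∑ i ∈ s, f i) := by
  classical
  induction s using Finset.induction_on with
  | empty => simpa using EvenInt.zero
  | insert a s ha ih =>
    rw [Finset.sum_insert ha]
    exact (h a (Finset.mem_insert_self a s)).add
      (ih fun i hi => h i (Finset.mem_insert_of_mem hi))

theorem not_evenInt_one : ¬ EvenInt 1 := by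
  rintro ⟨A, hA, h⟩
  have := nat_dvd_of_isIntegral (a := 1) (b := 2) hA (by push_cast; exact h) (by norm_num)
  omega

/-- A sum of algebraic integers invariant under a fixed-point-free involution is even. -/
theorem evenInt_sum_of_involution {ι : Type*} [DecidableEq ι] (σ : ι → ι) (f : ι → ℂ) :
    ∀ (n : ℕ) (s : Finset ι), s.card = n → (∀ a ∈ s, σ a ∈ s) → (∀ a ∈ s, σ (σ a) = a) →
      (∀ a ∈ s, σ a ≠ a) → (∀ a ∈ s, IsIntegral ℤ (f a)) → (∀ a ∈ s, f (σ a) = f a) →
      EvenInt (∑ a ∈ s, f a) := by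
  intro n
  induction n using Nat.strong_induction_on with
  | _ n ih =>
    intro s hs h1 h2 h3 h4 h5
    rcases s.eq_empty_or_nonempty with rfl | ⟨a, ha⟩
    · simpa using EvenInt.zero
    · have hσa : σ a ∈ s.erase a := Finset.mem_erase.2 ⟨h3 a ha, h1 a ha⟩
      rw [← Finset.add_sum_erase s f ha, ← Finset.add_sum_erase (s.erase a) f hσa, ← add_assoc]
      apply EvenInt.add
      · exact ⟨f a, h4 a ha, by rw [h5 a ha]; ring⟩
      · have hsub : ∀ b ∈ (s.erase a).erase (σ a), b ∈ s := fun b hb =>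
          Finset.mem_of_mem_erase (Finset.mem_of_mem_erase hb)
        have hcard : ((s.erase a).erase (σ a)).card < n := by
          rw [Finset.card_erase_of_mem hσa, Finset.card_erase_of_mem ha, hs]
          have : 0 < s.card := Finset.card_pos.2 ⟨a, ha⟩
          omega
        refine ih _ hcard _ rfl ?_ (fun b hb => h2 b (hsub b hb)) (fun b hb => h3 b (hsub b hb))
          (fun b hb => h4 b (hsub b hb)) (fun b hb => h5 b (hsub b hb))
        intro b hb
        have hb1 : b ≠ σ a := (Finset.mem_erase.1 hb).1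
        have hb2 : b ≠ a := (Finset.mem_erase.1 (Finset.mem_erase.1 hb).2).1
        refine Finset.mem_erase.2 ⟨?_, Finset.mem_erase.2 ⟨?_, h1 b (hsub b hb)⟩⟩
        · intro h
          apply hb2
          rw [← h2 b (hsub b hb), h, h2 a ha]
        · intro h
          apply hb1
          rw [← h2 b (hsub b hb), h]

/-- If an involution `t` and a real element `u`, not conjugate to `t`, with a unique square root
exist, then some irreducible character has even degree. -/
theorem exists_even_degree {G : Type*} [Group G] [Finite G] (t u : G) (ht : t * t = 1)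
    (htu : ¬ IsConj u t) (hreal : IsConj u u⁻¹) (r : G) (hr : ∀ h : G, h * h = u ↔ h = r) :
    ∃ χ : IrrCharacter G, Even (charDegree (χ : G → ℂ)) := by
  classical
  have := Fintype.ofFinite G
  have := Fintype.ofFinite (IrrCharacter G)
  by_contra hcon
  push Not at hcon
  have hint : ∀ χ : IrrCharacter G, IsIntegral ℤ ((χ : G → ℂ) u) := fun χ =>
    Cfsg.Agent.Lib.Helper20.isCharacter_isIntegral (isIrr_isChar χ.2) u
  -- values at t are odd integers
  have hval : ∀ χ : IrrCharacter G, ∃ k : ℤ, (χ : G → ℂ) t = 1 + 2 * (k : ℂ) := by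
    intro χ
    obtain ⟨a, ha⟩ := isChar_invol_value (isIrr_isChar χ.2) ht
    obtain ⟨j, hj⟩ := Nat.not_even_iff_odd.1 (hcon χ)
    refine ⟨(a : ℤ) - j - 1, ?_⟩
    rw [ha, isChar_one_eq (isIrr_isChar χ.2), hj]
    push_cast
    ring
  choose k hk using hval
  have h1 : EvenInt (∑ χ : IrrCharacter G, (χ : G → ℂ) u) := by
    have h := finsum_irr_mul_conj_of_not_isConj htu
    rw [finsum_eq_sum_of_fintype] at h
    have h2 : ∀ χ : IrrCharacter G, (χ : G → ℂ) u * conj ((χ : G → ℂ) t) =
        (χ : G → ℂ) u + 2 * ((k χ : ℂ) * (χ : G → ℂ) u) := by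
      intro χ
      rw [hk χ]
      simp only [map_add, map_one, map_mul, map_intCast, map_ofNat]
      ring
    simp only [h2] at h
    rw [Finset.sum_add_distrib, ← Finset.mul_sum] at h
    refine ⟨- ∑ χ : IrrCharacter G, (k χ : ℂ) * (χ : G → ℂ) u, ?_, by linear_combination h⟩
    exact (IsIntegral.sum _ fun χ _ => (isIntegral_intCast _).mul (hint χ)).neg
  -- Frobenius--Schur count of square roots
  have h2 : ∑ χ : IrrCharacter G, Cfsg.Agent.Lib.Helper78.fsNu (χ : G → ℂ) * (χ : G → ℂ) u = 1 := by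
    have h3 := congrFun (Cfsg.Agent.Lib.Helper20.eq_sum_classInner_smul
      (Cfsg.Agent.Lib.Helper78.fsTheta_isClassFunction (G := G))) u
    rw [Finset.sum_apply] at h3
    have h4 : Cfsg.Agent.Lib.Helper78.fsTheta u = 1 := by
      unfold Cfsg.Agent.Lib.Helper78.fsTheta
      rw [Finset.sum_eq_single r]
      · rw [if_pos ((hr r).2 rfl)]
      · intro b _ hb
        rw [if_neg (fun h => hb ((hr b).1 h))]
      · intro h; exact absurd (Finset.mem_univ _) h
    rw [h4] at h3
    rw [h3]
    apply Finset.sum_congr rfl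
    intro χ _
    rw [Pi.smul_apply, smul_eq_mul, Cfsg.Agent.Lib.Helper78.classInner_fsTheta χ.2]
  -- the difference is even
  have h3 : EvenInt (∑ χ : IrrCharacter G, (χ : G → ℂ) u -
      ∑ χ : IrrCharacter G, Cfsg.Agent.Lib.Helper78.fsNu (χ : G → ℂ) * (χ : G → ℂ) u) := by
    rw [← Finset.sum_sub_distrib,
      ← Finset.sum_filter_add_sum_filter_not Finset.univ
        (fun χ : IrrCharacter G => Cfsg.Agent.Lib.Helper78.fsNu (χ : G → ℂ) = 0)]
    apply EvenInt.add
    · have h4 : ∑ χ ∈ Finset.univ.filter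
          (fun χ : IrrCharacter G => Cfsg.Agent.Lib.Helper78.fsNu (χ : G → ℂ) = 0),
          ((χ : G → ℂ) u - Cfsg.Agent.Lib.Helper78.fsNu (χ : G → ℂ) * (χ : G → ℂ) u) =
          ∑ χ ∈ Finset.univ.filter
          (fun χ : IrrCharacter G => Cfsg.Agent.Lib.Helper78.fsNu (χ : G → ℂ) = 0),
          (χ : G → ℂ) u := by
        apply Finset.sum_congr rfl
        intro χ hχ
        rw [(Finset.mem_filter.1 hχ).2]; ring
      rw [h4]
      have hmem : ∀ χ : IrrCharacter G, Cfsg.Agent.Lib.Helper78.fsNu (χ : G → ℂ) = 0 ↔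
          Cfsg.Agent.Lib.Helper78.conjIrr χ ≠ χ := by
        intro χ
        rw [(Cfsg.Agent.Lib.Helper78.fsNu_irr χ.2).2, Ne,
          Cfsg.Agent.Lib.Helper78.conjIrr_eq_iff]
        push Not
        rfl
      refine evenInt_sum_of_involution Cfsg.Agent.Lib.Helper78.conjIrr
        (fun χ : IrrCharacter G => (χ : G → ℂ) u) _ _ rfl ?_ ?_ ?_ ?_ ?_
      · intro χ hχ
        rw [Finset.mem_filter, hmem] at hχ ⊢
        refine ⟨Finset.mem_univ _, ?_⟩
        rw [Cfsg.Agent.Lib.Helper78.conjIrr_conjIrr]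
        exact fun h => hχ.2 h.symm
      · intro χ _
        exact Cfsg.Agent.Lib.Helper78.conjIrr_conjIrr χ
      · intro χ hχ
        rw [Finset.mem_filter, hmem] at hχ
        exact hχ.2
      · intro χ _
        exact hint χ
      · intro χ _
        show conj ((χ : G → ℂ) u) = (χ : G → ℂ) u
        rw [← Cfsg.Agent.Lib.Helper20.isCharacter_inv (isIrr_isChar χ.2)]
        exact (isChar_eq_of_isConj (isIrr_isChar χ.2) hreal).symm
    · apply EvenInt.sum
      intro χ hχ
      have hne : ¬ Cfsg.Agent.Lib.Helper78.fsNu (χ : G → ℂ) = 0 := (Finset.mem_filter.1 hχ).2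
      rcases (Cfsg.Agent.Lib.Helper78.fsNu_irr χ.2).1 with h | h | h
      · exact absurd h hne
      · rw [h]
        exact ⟨0, isIntegral_zero, by ring⟩
      · rw [h]
        exact ⟨(χ : G → ℂ) u, hint χ, by ring⟩
  rw [h2] at h3
  apply not_evenInt_one
  have := h1.sub h3
  simpa using this

end Cfsg.Agent.Lib.Helper82
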