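import Cfsg.Agent.Lib.Helper81.GroupAlg
import Cfsg.Agent.Lib.Helper21.Cover
import Cfsg.Agent.Lib.Helper21.QuotDefect

set_option autoImplicit false
set_option linter.unusedSectionVars false
open Cfsg
open scoped ComplexConjugate
open Cfsg.Agent.Lib.Helper20 Cfsg.Agent.Lib.Helper81 Cfsg.Agent.Lib.Helper21

namespace Cfsg.Agent.Lib.Helper82

section Conv

variable {G : Type*} [Group G] [Fintype G]

theorem conv_assoc (a b c : G → ℂ) : conv (conv a b) c = conv a (conv b c) := by
  have h : Lm (conv (conv a b) c) = Lm (conv a (conv b c)) := by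
    rw [← Lm_mul, ← Lm_mul, ← Lm_mul, ← Lm_mul, mul_assoc]
  funext k
  have := congrFun (congrFun h k) 1
  simpa [Lm] using this

theorem conv_add_right (a b c : G → ℂ) : conv a (b + c) = conv a b + conv a c := by
  funext k; simp [conv, mul_add, Finset.sum_add_distrib]

theorem conv_add_left (a b c : G → ℂ) : conv (a + b) c = conv a c + conv b c := by
  funext k; simp [conv, add_mul, Finset.sum_add_distrib]

theorem conv_smul_right (r : ℂ) (a b : G → ℂ) : conv a (r • b) = r • conv a b := by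
  funext k; simp only [conv, Pi.smul_apply, smul_eq_mul, Finset.mul_sum]
  apply Finset.sum_congr rfl; intro g _; ring

theorem conv_smul_left (r : ℂ) (a b : G → ℂ) : conv (r • a) b = r • conv a b := by
  funext k; simp only [conv, Pi.smul_apply, smul_eq_mul, Finset.mul_sum]
  apply Finset.sum_congr rfl; intro g _; ring

theorem conv_sum_right {ι : Type*} (s : Finset ι) (a : G → ℂ) (b : ι → G → ℂ) :
    conv a (∑ i ∈ s, b i) = ∑ i ∈ s, conv a (b i) := by
  funext k
  simp only [conv, Finset.sum_apply, Finset.mul_sum]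
  rw [Finset.sum_comm]

theorem conv_sum_left {ι : Type*} (s : Finset ι) (a : ι → G → ℂ) (b : G → ℂ) :
    conv (∑ i ∈ s, a i) b = ∑ i ∈ s, conv (a i) b := by
  funext k
  simp only [conv, Finset.sum_apply, Finset.sum_mul]
  rw [Finset.sum_comm]

theorem sum_conv (a b : G → ℂ) : ∑ k, conv a b k = (∑ g, a g) * ∑ g, b g := by
  simp only [conv]
  rw [Finset.sum_comm, Finset.sum_mul]
  apply Finset.sum_congr rfl; intro g _
  rw [← Finset.mul_sum]
  congr 1
  exact Equiv.sum_comp (Equiv.mulLeft g⁻¹) b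

/-- invariance under conjugation by the subgroup `N` -/
def NInv (N : Subgroup G) (f : G → ℂ) : Prop := ∀ m ∈ N, ∀ g, f (m * g * m⁻¹) = f g

theorem NInv.of_classFunction (N : Subgroup G) {f : G → ℂ} (hf : IsClassFunction G f) :
    NInv N f := fun m _ g => hf g m

theorem NInv.conv {N : Subgroup G} {f h : G → ℂ} (hf : NInv N f) (hh : NInv N h) :
    NInv N (Helper81.conv f h) := by
  intro m hm k
  simp only [Helper81.conv]
  rw [← Equiv.sum_comp (MulAut.conj m).toEquiv]
  apply Finset.sum_congr rfl; intro g _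
  simp only [MulEquiv.toEquiv_eq_coe, EquivLike.coe_coe, MulAut.conj_apply]
  rw [hf m hm g]
  congr 1
  rw [← hh m hm (g⁻¹ * k)]
  congr 1; group

theorem NInv.smul {N : Subgroup G} {f : G → ℂ} (hf : NInv N f) (r : ℂ) : NInv N (r • f) := by
  intro m hm g; simp [hf m hm g]

theorem NInv.comm_ext0 {N : Subgroup G} [Fintype N] {f : G → ℂ} (hf : NInv N f) (a : N → ℂ) :
    Helper81.conv f (ext0 N a) = Helper81.conv (ext0 N a) f := by
  funext k
  simp only [Helper81.conv]
  rw [← Equiv.sum_comp ((Equiv.inv G).trans (Equiv.mulLeft k))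
    (fun g => f g * ext0 N a (g⁻¹ * k))]
  apply Finset.sum_congr rfl; intro g _
  simp only [Equiv.trans_apply, Equiv.inv_apply, Equiv.coe_mulLeft]
  have h2 : (k * g⁻¹)⁻¹ * k = g := by group
  rw [h2, mul_comm]
  by_cases hg : g ∈ N
  · congr 1
    rw [← hf g⁻¹ (N.inv_mem hg) (k * g⁻¹)]
    congr 1; group
  · rw [ext0_of_not_mem N a hg, zero_mul, zero_mul]

variable (N : Subgroup G) [N.Normal]

/-- support in a coset of `N` -/
def Supp (q : G ⧸ N) (f : G → ℂ) : Prop := ∀ g : G, (g : G ⧸ N) ≠ q → f g = 0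

/-- restriction to a coset, extended by zero -/
noncomputable def cres (q : G ⧸ N) (f : G → ℂ) : G → ℂ := fun g => by
  classical exact if (g : G ⧸ N) = q then f g else 0

variable {N}

theorem cres_of_eq {q : G ⧸ N} (f : G → ℂ) {g : G} (h : (g : G ⧸ N) = q) : cres N q f g = f g := by
  simp only [cres]; exact if_pos h

theorem cres_of_ne {q : G ⧸ N} (f : G → ℂ) {g : G} (h : (g : G ⧸ N) ≠ q) : cres N q f g = 0 := by
  simp only [cres]; exact if_neg h

theorem supp_cres (q : G ⧸ N) (f : G → ℂ) : Supp N q (cres N q f) := fun _ hg => cres_of_ne f hg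

theorem cres_eq_self {q : G ⧸ N} {f : G → ℂ} (hf : Supp N q f) : cres N q f = f := by
  funext g
  by_cases h : (g : G ⧸ N) = q
  · exact cres_of_eq f h
  · rw [cres_of_ne f h, hf g h]

theorem cres_eq_zero {q r : G ⧸ N} (hqr : r ≠ q) {f : G → ℂ} (hf : Supp N q f) :
    cres N r f = 0 := by
  funext g
  by_cases h : (g : G ⧸ N) = r
  · rw [cres_of_eq f h, hf g (h ▸ hqr)]; rfl
  · rw [cres_of_ne f h]; rfl

theorem cres_smul (q : G ⧸ N) (r : ℂ) (f : G → ℂ) : cres N q (r • f) = r • cres N q f := by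
  funext g
  by_cases h : (g : G ⧸ N) = q
  · simp [cres_of_eq _ h]
  · simp [cres_of_ne _ h]

theorem cres_sum {ι : Type*} (s : Finset ι) (q : G ⧸ N) (f : ι → G → ℂ) :
    cres N q (∑ i ∈ s, f i) = ∑ i ∈ s, cres N q (f i) := by
  funext g
  by_cases h : (g : G ⧸ N) = q
  · simp [cres_of_eq _ h]
  · simp [cres_of_ne _ h]

theorem sum_cres [Fintype (G ⧸ N)] (f : G → ℂ) : ∑ q : G ⧸ N, cres N q f = f := by
  classical
  funext g
  rw [Finset.sum_apply, Finset.sum_eq_single (g : G ⧸ N)]
  · exact cres_of_eq f rfl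
  · intro q _ hq; exact cres_of_ne f (Ne.symm hq)
  · intro h; exact absurd (Finset.mem_univ _) h

theorem NInv.cres {f : G → ℂ} (hf : NInv N f) (q : G ⧸ N) : NInv N (cres N q f) := by
  intro m hm g
  have h1 : ((m * g * m⁻¹ : G) : G ⧸ N) = (g : G ⧸ N) := by
    rw [QuotientGroup.mk_mul, QuotientGroup.mk_mul, QuotientGroup.mk_inv,
      (QuotientGroup.eq_one_iff m).2 hm]; simp
  by_cases h : (g : G ⧸ N) = q
  · rw [cres_of_eq f h, cres_of_eq f (h1.trans h), hf m hm g]
  · rw [cres_of_ne f h, cres_of_ne f (fun h' => h (h1.symm.trans h'))]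

theorem Supp.conv {q r : G ⧸ N} {f h : G → ℂ} (hf : Supp N q f) (hh : Supp N r h) :
    Supp N (q * r) (Helper81.conv f h) := by
  intro k hk
  simp only [Helper81.conv]
  apply Finset.sum_eq_zero; intro g _
  by_cases hg : (g : G ⧸ N) = q
  · have : ((g⁻¹ * k : G) : G ⧸ N) ≠ r := by
      intro h'; apply hk
      rw [← hg, ← h', QuotientGroup.mk_mul, QuotientGroup.mk_inv]; group
    rw [hh _ this, mul_zero]
  · rw [hf _ hg, zero_mul]

theorem Supp.smul {q : G ⧸ N} {f : G → ℂ} (hf : Supp N q f) (r : ℂ) : Supp N q (r • f) := by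
  intro g hg; simp [hf g hg]

theorem supp_ext0 (a : N → ℂ) : Supp N 1 (ext0 N a) := by
  intro g hg
  apply ext0_of_not_mem
  intro h; exact hg ((QuotientGroup.eq_one_iff g).2 h)

theorem cres_conv_left {q r : G ⧸ N} (f : G → ℂ) {h : G → ℂ} (hh : Supp N r h) :
    cres N (q * r) (conv f h) = conv (cres N q f) h := by
  funext k
  by_cases hk : (k : G ⧸ N) = q * r
  · rw [cres_of_eq _ hk]
    simp only [Helper81.conv]
    apply Finset.sum_congr rfl; intro g _
    by_cases hg : (g : G ⧸ N) = q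
    · rw [cres_of_eq f hg]
    · have : ((g⁻¹ * k : G) : G ⧸ N) ≠ r := by
        intro h'; apply hg
        rw [QuotientGroup.mk_mul, QuotientGroup.mk_inv, hk] at h'
        have : (g : G ⧸ N)⁻¹ * q = 1 := by
          have h2 : (g : G ⧸ N)⁻¹ * q * r = r := by rw [mul_assoc]; exact h'
          exact mul_eq_right.1 h2
        rw [inv_mul_eq_one] at this; exact this
      rw [hh _ this, mul_zero, mul_zero]
  · rw [cres_of_ne _ hk, ((supp_cres q f).conv hh) k hk]

theorem cres_conv_right {q r : G ⧸ N} {f : G → ℂ} (hf : Supp N q f) (h : G → ℂ) :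
    cres N (q * r) (conv f h) = conv f (cres N r h) := by
  funext k
  by_cases hk : (k : G ⧸ N) = q * r
  · rw [cres_of_eq _ hk]
    simp only [Helper81.conv]
    apply Finset.sum_congr rfl; intro g _
    by_cases hg : (g : G ⧸ N) = q
    · have : ((g⁻¹ * k : G) : G ⧸ N) = r := by
        rw [QuotientGroup.mk_mul, QuotientGroup.mk_inv, hk, hg]; group
      rw [cres_of_eq h this]
    · rw [hf _ hg, zero_mul, zero_mul]
  · rw [cres_of_ne _ hk, (hf.conv (supp_cres r h)) k hk]

/-- an `N`-invariant function supported on `N` is the extension of a class function of `N` -/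
theorem eq_ext0_of_supp_one {f : G → ℂ} (hs : Supp N 1 f) : f = ext0 N (fun n : N => f n) := by
  symm
  apply ext0_res
  intro g hg
  apply hs
  intro h; exact hg ((QuotientGroup.eq_one_iff g).1 h)

theorem NInv.res_classFunction {f : G → ℂ} (hf : NInv N f) :
    IsClassFunction N (fun n : N => f n) := by
  intro n m
  exact hf m m.2 n

theorem sum_res_of_supp_one [Fintype N] {f : G → ℂ} (hs : Supp N 1 f) :
    ∑ n : N, f n = ∑ g, f g := by
  apply sum_subgroup_eq
  intro g hg
  apply hs
  intro h; exact hg ((QuotientGroup.eq_one_iff g).1 h)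

theorem sum_cres_eq_pushQ (q : G ⧸ N) (f : G → ℂ) : ∑ g, cres N q f g = pushQ N f q := by
  simp only [cres, pushQ]

end Conv

end Cfsg.Agent.Lib.Helper82
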