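import Cfsg.Agent.Lib.Helper82.ADApply
import Cfsg.Agent.Lib.Helper82.Constituent
import Cfsg.Agent.S4520

set_option autoImplicit false
set_option linter.unusedSectionVars false
open Cfsg
open scoped ComplexConjugate
open Cfsg.Agent.Lib.Helper20 Cfsg.Agent.Lib.Helper81 Cfsg.Agent.Lib.Helper21

namespace Cfsg.Agent.Lib.Helper82

section Final

variable {G : Type*} [Group G] [Fintype G] {p : ℕ} [Fact p.Prime] {M : Ideal AlgInt}
variable {N : Subgroup G} [N.Normal] [Fintype N]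

open Classical in
/-- Alperin–Dade, numerical form: `∑_{χ ∈ B₀(G)} χ(1) [χ_N, θ] = θ(1)` for `θ ∈ B₀(N)`. -/
theorem sum_degree_mul_mult [Fintype (IrrCharacter G)] (hM : IsPModular p M)
    (hidx : ¬ p ∣ N.index) (P : Sylow p G)
    (hsup : N ⊔ Subgroup.centralizer ((P : Subgroup G) : Set G) = ⊤)
    (θ : IrrCharacter N) (hθ : θ ∈ principalBlock M N) (m : IrrCharacter G → ℕ)
    (hm : ∀ χ : IrrCharacter G, classInner (fun n : N => (χ : G → ℂ) n) (θ : N → ℂ) = (m χ : ℂ)) :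
    ∑ χ : IrrCharacter G, (if χ ∈ principalBlock M G then charDegree (χ : G → ℂ) * m χ else 0)
      = charDegree (θ : N → ℂ) := by
  have : Fintype (G ⧸ N) := Fintype.ofFinite _
  set B := principalBlock M G with hB
  have hBb : IsPBlock M B := ⟨trivIrr G, rfl⟩
  have hn0 : (Fintype.card (G ⧸ N) : ℂ) ≠ 0 := by
    exact_mod_cast Fintype.card_ne_zero
  have key := (cosetSys hM hidx P hsup).main hM hθ (blockCoeff B) (blockCoeff_classFunction B)
    (conv_blockCoeff_self B) (osima hM B hBb) ((Fintype.card (G ⧸ N) : ℂ)⁻¹)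
    (mul_inv_cancel₀ hn0) (pushQ_principal hM hidx P hsup)
  have hθ1 : (θ : N → ℂ) 1 ≠ 0 := irr_one_ne_zero θ.2
  have hG : (Nat.card G : ℂ) ≠ 0 := card_ne_zero_complex
  have hN : (Nat.card N : ℂ) ≠ 0 := card_ne_zero_complex
  have hinner : ∀ χ : IrrCharacter G, ∑ n : N, conj ((χ : G → ℂ) n) * (θ : N → ℂ) n
      = (Nat.card N : ℂ) * (m χ : ℂ) := by
    intro χ
    have h1 := hm χ
    rw [classInner] at h1
    have h2 : ∑ n : N, (χ : G → ℂ) n * conj ((θ : N → ℂ) n) = (Nat.card N : ℂ) * (m χ : ℂ) := by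
      rw [← h1, ← mul_assoc, mul_inv_cancel₀ hN, one_mul]
    have h3 := congrArg conj h2
    rw [map_sum, map_mul, Complex.conj_natCast, Complex.conj_natCast] at h3
    rw [← h3]
    apply Finset.sum_congr rfl; intro n _
    rw [map_mul, Complex.conj_conj]
  have hom : omega (θ : N → ℂ) (fun n : N => blockCoeff B n)
      = (Nat.card G : ℂ)⁻¹ * (Nat.card N : ℂ) / (θ : N → ℂ) 1 *
        ∑ χ : IrrCharacter G, (if χ ∈ B then (χ : G → ℂ) 1 * (m χ : ℂ) else 0) := by
    simp only [omega, blockCoeff]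
    rw [Finset.mul_sum]
    have h1 : ∀ n : N, (Nat.card G : ℂ)⁻¹ * (∑ᶠ χ ∈ B, (χ : G → ℂ) 1 * conj ((χ : G → ℂ) n))
          * (θ : N → ℂ) n / (θ : N → ℂ) 1
        = ∑ χ : IrrCharacter G, (if χ ∈ B then (Nat.card G : ℂ)⁻¹ / (θ : N → ℂ) 1 * (χ : G → ℂ) 1 *
            (conj ((χ : G → ℂ) n) * (θ : N → ℂ) n) else 0) := by
      intro n
      rw [finsum_mem_irr, Finset.mul_sum, Finset.sum_mul, Finset.sum_div]
      apply Finset.sum_congr rfl; intro χ _
      split_ifs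
      · ring
      · simp
    rw [Finset.sum_congr rfl (fun n _ => h1 n), Finset.sum_comm]
    apply Finset.sum_congr rfl; intro χ _
    split_ifs
    · rw [← Finset.mul_sum, hinner χ]; ring
    · simp
  rw [hom] at key
  have hcard : (Fintype.card (G ⧸ N) : ℂ) * (Nat.card N : ℂ) = (Nat.card G : ℂ) := by
    rw [← Nat.card_eq_fintype_card, ← Subgroup.index_eq_card, ← Nat.cast_mul,
      Subgroup.index_mul_card]
  have key2 : ∑ χ : IrrCharacter G, (if χ ∈ B then (χ : G → ℂ) 1 * (m χ : ℂ) else 0)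
      = (θ : N → ℂ) 1 := by
    have h2 : (Fintype.card (G ⧸ N) : ℂ) * ((Nat.card G : ℂ)⁻¹ * (Nat.card N : ℂ) / (θ : N → ℂ) 1 *
        ∑ χ : IrrCharacter G, (if χ ∈ B then (χ : G → ℂ) 1 * (m χ : ℂ) else 0))
        = ((Fintype.card (G ⧸ N) : ℂ) * (Nat.card N : ℂ)) * (Nat.card G : ℂ)⁻¹ / (θ : N → ℂ) 1 *
        ∑ χ : IrrCharacter G, (if χ ∈ B then (χ : G → ℂ) 1 * (m χ : ℂ) else 0) := by ring
    rw [h2, hcard, mul_inv_cancel₀ hG] at key
    field_simp at key
    exact key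
  have key3 : ((∑ χ : IrrCharacter G, (if χ ∈ B then charDegree (χ : G → ℂ) * m χ else 0) : ℕ) : ℂ)
      = (charDegree (θ : N → ℂ) : ℂ) := by
    rw [← isChar_one_eq (isIrr_isChar θ.2), ← key2]
    push_cast
    apply Finset.sum_congr rfl; intro χ _
    split_ifs
    · rw [isChar_one_eq (isIrr_isChar χ.2)]
    · rfl
  exact_mod_cast key3

end Final

end Cfsg.Agent.Lib.Helper82
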