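import Cfsg.Agent.Lib.Helper81.LocalRing
import Mathlib.LinearAlgebra.Matrix.Determinant.Basic
import Mathlib.LinearAlgebra.Matrix.ToLinearEquiv

set_option autoImplicit false
set_option linter.unusedSectionVars false
open Cfsg
open Cfsg.Agent.Lib.Helper81

namespace Cfsg.Agent.Lib.Helper82

variable {p : ℕ} {M : Ideal AlgInt}

theorem det_one_sub_ne_zero (hM : IsPModular p M) {Q : Type*} [Fintype Q] [DecidableEq Q]
    (E : Matrix Q Q ℂ) (hE : ∀ u s, MemLocalIdeal M (E u s)) : (1 - E).det ≠ 0 := by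
  let E' : Matrix Q Q (locRing hM) := fun u s => ⟨E u s, memLocalRing_of_memLocalIdeal (hE u s)⟩
  have h1 : (locRing hM).subtype.mapMatrix (1 - E') = 1 - E := by
    rw [map_sub, map_one]
    congr 1
  have h2 : (locRing hM).subtype ((1 - E').det) = (1 - E).det := by
    rw [RingHom.map_det, h1]
  have h3 : Ideal.Quotient.mk (locIdeal hM) ((1 - E').det) = 1 := by
    rw [RingHom.map_det, map_sub, map_one]
    have : (Ideal.Quotient.mk (locIdeal hM)).mapMatrix E' = 0 := by
      ext u s
      simp only [RingHom.mapMatrix_apply, Matrix.map_apply, Matrix.zero_apply]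
      rw [Ideal.Quotient.eq_zero_iff_mem, mem_locIdeal]
      exact hE u s
    rw [this, sub_zero, Matrix.det_one]
  intro h0
  rw [← h2] at h0
  have h4 : (1 - E').det = 0 := by
    apply Subtype.ext
    exact h0
  rw [h4, map_zero] at h3
  apply locIdeal_ne_top hM
  rw [Ideal.eq_top_iff_one, ← Ideal.Quotient.eq_zero_iff_mem, map_one]
  exact h3.symm

/-- Two fixed vectors of a matrix congruent to `J / n` are proportional. -/
theorem fixed_vectors_proportional (hM : IsPModular p M) {Q : Type*} [Fintype Q] [DecidableEq Q]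
    (c : ℂ) (A : Matrix Q Q ℂ) (hA : ∀ u s, MemLocalIdeal M (A u s - c))
    (v v' : Q → ℂ) (hv : A.mulVec v = v) (hv' : A.mulVec v' = v') :
    (∑ q, v q) • v' = (∑ q, v' q) • v := by
  set w : Q → ℂ := (∑ q, v q) • v' - (∑ q, v' q) • v with hw
  have hAw : A.mulVec w = w := by
    rw [hw, Matrix.mulVec_sub, Matrix.mulVec_smul, Matrix.mulVec_smul, hv, hv']
  have hsum : ∑ q, w q = 0 := by
    simp only [hw, Pi.sub_apply, Pi.smul_apply, smul_eq_mul, Finset.sum_sub_distrib,
      ← Finset.mul_sum]
    ring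
  let E : Matrix Q Q ℂ := fun u s => A u s - c
  have hEw : E.mulVec w = w := by
    funext u
    have h1 := congrFun hAw u
    simp only [Matrix.mulVec, dotProduct] at h1 ⊢
    simp only [E, sub_mul, Finset.sum_sub_distrib, ← Finset.mul_sum, hsum, mul_zero, sub_zero]
    exact h1
  have h0 : (1 - E).mulVec w = 0 := by
    rw [Matrix.sub_mulVec, Matrix.one_mulVec, hEw, sub_self]
  have hw0 : w = 0 := Matrix.eq_zero_of_mulVec_eq_zero (det_one_sub_ne_zero hM E hA) h0
  exact sub_eq_zero.1 hw0

end Cfsg.Agent.Lib.Helper82
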