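import Mathlib
import Cfsg.Prelude.Def_ChevStructure

/-!
# CEN ladder: the group `ZZ D K` of cocharacter values killed by all roots (shared definition),
and the number of `n`-th roots of unity of a finite field
-/

set_option autoImplicit false

namespace Cfsg.Agent.Lib.Lead.Mil

open Cfsg Cfsg.Lie

/-- the group of cocharacter values killed by all roots -/
def ZZ (D : ChevalleyDatum) (K : Type*) [Field K] : Set (Fin D.rank → Kˣ) :=
  {c | ∀ s < D.nroots, ((List.finRange D.rank).map fun i => c i ^ D.cartan i s).prod = 1}

/-- the number of `n`-th roots of unity in a finite field -/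
theorem card_pow_eq_one_units {K : Type*} [Field K] [Fintype K] (n : ℕ) :
    Nat.card {a : Kˣ // a ^ n = 1} = Nat.gcd n (Fintype.card K - 1) := by
  classical
  have h := IsCyclic.card_powMonoidHom_ker (G := Kˣ) n
  rw [Nat.card_eq_fintype_card (α := Kˣ), Fintype.card_units, Nat.gcd_comm] at h
  rw [← h]
  apply Nat.card_congr
  exact Equiv.subtypeEquivRight (fun a => by rw [MonoidHom.mem_ker]; rfl)

end Cfsg.Agent.Lib.Lead.Mil
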