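import Mathlib
import Cfsg.Prelude.Def_ChevE6
import Cfsg.Agent.Lib.Helper82.CenZZ

/-!
# CEN ladder, rung CNT6: `ZZ chevE6 K` has `gcd (3, q - 1)` elements
-/

set_option autoImplicit false

namespace Cfsg.Agent.Lib.Lead.Mil

open Cfsg Cfsg.Lie

theorem cnt6_mem {K : Type*} [Field K] (c : Fin 6 → Kˣ) :
    c ∈ (ZZ chevE6 K : Set (Fin 6 → Kˣ)) ↔ ∀ s < 72,
      c 0 ^ chevE6.cartan 0 s * (c 1 ^ chevE6.cartan 1 s * (c 2 ^ chevE6.cartan 2 s *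
        (c 3 ^ chevE6.cartan 3 s * (c 4 ^ chevE6.cartan 4 s * c 5 ^ chevE6.cartan 5 s)))) = 1 := by
  have h : List.finRange 6 = [0, 1, 2, 3, 4, 5] := by decide
  show (∀ s < 72, ((List.finRange 6).map fun i : Fin 6 => c i ^ chevE6.cartan i s).prod = 1) ↔ _
  rw [h]
  simp only [List.map_cons, List.map_nil, List.prod_cons, List.prod_nil, mul_one]
  rfl

theorem cnt6_dvd : ∀ s < 72, (3 : ℤ) ∣ chevE6.cartan 0 s + 2 * chevE6.cartan 2 s + chevE6.cartan 4 s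
    + 2 * chevE6.cartan 5 s := by
  decide +kernel

theorem cnt6_r0 : chevE6.cartan 0 56 = 2 ∧ chevE6.cartan 1 56 = 0 ∧ chevE6.cartan 2 56 = -1 ∧ chevE6.cartan 3 56 = 0 ∧ chevE6.cartan 4 56 = 0 ∧ chevE6.cartan 5 56 = 0 := by
  decide +kernel

theorem cnt6_r1 : chevE6.cartan 0 46 = 0 ∧ chevE6.cartan 1 46 = 2 ∧ chevE6.cartan 2 46 = 0 ∧ chevE6.cartan 3 46 = -1 ∧ chevE6.cartan 4 46 = 0 ∧ chevE6.cartan 5 46 = 0 := by
  decide +kernel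

theorem cnt6_r2 : chevE6.cartan 0 42 = -1 ∧ chevE6.cartan 1 42 = 0 ∧ chevE6.cartan 2 42 = 2 ∧ chevE6.cartan 3 42 = -1 ∧ chevE6.cartan 4 42 = 0 ∧ chevE6.cartan 5 42 = 0 := by
  decide +kernel

theorem cnt6_r3 : chevE6.cartan 0 39 = 0 ∧ chevE6.cartan 1 39 = -1 ∧ chevE6.cartan 2 39 = -1 ∧ chevE6.cartan 3 39 = 2 ∧ chevE6.cartan 4 39 = -1 ∧ chevE6.cartan 5 39 = 0 := by
  decide +kernel

theorem cnt6_r4 : chevE6.cartan 0 37 = 0 ∧ chevE6.cartan 1 37 = 0 ∧ chevE6.cartan 2 37 = 0 ∧ chevE6.cartan 3 37 = -1 ∧ chevE6.cartan 4 37 = 2 ∧ chevE6.cartan 5 37 = -1 := by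
  decide +kernel

theorem cnt6_r5 : chevE6.cartan 0 36 = 0 ∧ chevE6.cartan 1 36 = 0 ∧ chevE6.cartan 2 36 = 0 ∧ chevE6.cartan 3 36 = 0 ∧ chevE6.cartan 4 36 = -1 ∧ chevE6.cartan 5 36 = 2 := by
  decide +kernel

theorem cnt6_iff {K : Type*} [Field K] (c : Fin 6 → Kˣ) :
    c ∈ (ZZ chevE6 K : Set (Fin 6 → Kˣ)) ↔
      (c 0 ^ 3 = 1 ∧ c 1 = 1 ∧ c 2 = c 0 ^ 2 ∧ c 3 = 1 ∧ c 4 = c 0 ∧ c 5 = c 0 ^ 2) := by
  rw [cnt6_mem]
  constructor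
  · intro h
    have e1 : c 0 ^ (2 : ℤ) * (c 1 ^ (0 : ℤ) * (c 2 ^ (-1 : ℤ) * (c 3 ^ (0 : ℤ) * (c 4 ^ (0 : ℤ) *
        c 5 ^ (0 : ℤ))))) = 1 := by
      have := h 56 (by norm_num)
      obtain ⟨a0, a1, a2, a3, a4, a5⟩ := cnt6_r0
      rwa [a0, a1, a2, a3, a4, a5] at this
    have e2 : c 0 ^ (0 : ℤ) * (c 1 ^ (2 : ℤ) * (c 2 ^ (0 : ℤ) * (c 3 ^ (-1 : ℤ) * (c 4 ^ (0 : ℤ) *
        c 5 ^ (0 : ℤ))))) = 1 := by
      have := h 46 (by norm_num)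
      obtain ⟨a0, a1, a2, a3, a4, a5⟩ := cnt6_r1
      rwa [a0, a1, a2, a3, a4, a5] at this
    have e3 : c 0 ^ (-1 : ℤ) * (c 1 ^ (0 : ℤ) * (c 2 ^ (2 : ℤ) * (c 3 ^ (-1 : ℤ) * (c 4 ^ (0 : ℤ) *
        c 5 ^ (0 : ℤ))))) = 1 := by
      have := h 42 (by norm_num)
      obtain ⟨a0, a1, a2, a3, a4, a5⟩ := cnt6_r2
      rwa [a0, a1, a2, a3, a4, a5] at this
    have e4 : c 0 ^ (0 : ℤ) * (c 1 ^ (-1 : ℤ) * (c 2 ^ (-1 : ℤ) * (c 3 ^ (2 : ℤ) * (c 4 ^ (-1 : ℤ) *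
        c 5 ^ (0 : ℤ))))) = 1 := by
      have := h 39 (by norm_num)
      obtain ⟨a0, a1, a2, a3, a4, a5⟩ := cnt6_r3
      rwa [a0, a1, a2, a3, a4, a5] at this
    have e5 : c 0 ^ (0 : ℤ) * (c 1 ^ (0 : ℤ) * (c 2 ^ (0 : ℤ) * (c 3 ^ (-1 : ℤ) * (c 4 ^ (2 : ℤ) *
        c 5 ^ (-1 : ℤ))))) = 1 := by
      have := h 37 (by norm_num)
      obtain ⟨a0, a1, a2, a3, a4, a5⟩ := cnt6_r4
      rwa [a0, a1, a2, a3, a4, a5] at this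
    have e6 : c 0 ^ (0 : ℤ) * (c 1 ^ (0 : ℤ) * (c 2 ^ (0 : ℤ) * (c 3 ^ (0 : ℤ) * (c 4 ^ (-1 : ℤ) *
        c 5 ^ (2 : ℤ))))) = 1 := by
      have := h 36 (by norm_num)
      obtain ⟨a0, a1, a2, a3, a4, a5⟩ := cnt6_r5
      rwa [a0, a1, a2, a3, a4, a5] at this
    replace e1 := congrArg Additive.ofMul e1
    replace e2 := congrArg Additive.ofMul e2
    replace e3 := congrArg Additive.ofMul e3
    replace e4 := congrArg Additive.ofMul e4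
    replace e5 := congrArg Additive.ofMul e5
    replace e6 := congrArg Additive.ofMul e6
    simp only [ofMul_mul, ofMul_zpow, ofMul_one] at e1 e2 e3 e4 e5 e6
    refine ⟨?_, ?_, ?_, ?_, ?_, ?_⟩ <;> apply Additive.ofMul.injective <;>
      try simp only [ofMul_pow, ofMul_one]
    · linear_combination (norm := module) (4 : ℤ) • e1 + (3 : ℤ) • e2 + (5 : ℤ) • e3 + (6 : ℤ) • e4
        + (4 : ℤ) • e5 + (2 : ℤ) • e6
    · linear_combination (norm := module) (1 : ℤ) • e1 + (2 : ℤ) • e2 + (2 : ℤ) • e3 + (3 : ℤ) • e4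
        + (2 : ℤ) • e5 + (1 : ℤ) • e6
    · linear_combination (norm := module) (-1 : ℤ) • e1
    · linear_combination (norm := module) (2 : ℤ) • e1 + (3 : ℤ) • e2 + (4 : ℤ) • e3 + (6 : ℤ) • e4
        + (4 : ℤ) • e5 + (2 : ℤ) • e6
    · linear_combination (norm := module) (1 : ℤ) • e2 + (1 : ℤ) • e3 + (2 : ℤ) • e4
        + (2 : ℤ) • e5 + (1 : ℤ) • e6
    · linear_combination (norm := module) (-2 : ℤ) • e1 + (-1 : ℤ) • e2 + (-2 : ℤ) • e3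
        + (-2 : ℤ) • e4 + (-1 : ℤ) • e5
  · rintro ⟨h0, h1, h2, h3, h4, h5⟩ s hs
    obtain ⟨m, hm⟩ := cnt6_dvd s hs
    rw [h1, h2, h3, h4, h5, one_zpow, one_zpow, one_mul, one_mul, ← zpow_natCast (c 0) 2,
      ← zpow_mul, ← zpow_mul, ← zpow_add, ← zpow_add, ← zpow_add]
    have : chevE6.cartan 0 s + (((2 : ℕ) : ℤ) * chevE6.cartan 2 s + (chevE6.cartan 4 s
        + ((2 : ℕ) : ℤ) * chevE6.cartan 5 s)) = ((3 : ℕ) : ℤ) * m := by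
      push_cast
      linarith
    rw [this, zpow_mul, zpow_natCast, h0, one_zpow]

/-- [CNT6] -/
theorem card_ZZ_E6 {K : Type*} [Field K] [Fintype K] :
    Nat.card (ZZ chevE6 K) = Nat.gcd 3 (Fintype.card K - 1) := by
  rw [← card_pow_eq_one_units 3]
  show Nat.card {c : Fin 6 → Kˣ // c ∈ (ZZ chevE6 K : Set (Fin 6 → Kˣ))} = _
  apply Nat.card_congr
  refine ⟨fun c => ⟨c.1 0, ((cnt6_iff c.1).1 c.2).1⟩,
    fun a => ⟨![a.1, 1, a.1 ^ 2, 1, a.1, a.1 ^ 2], (cnt6_iff _).2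
      ⟨a.2, rfl, rfl, rfl, rfl, rfl⟩⟩, ?_, ?_⟩
  · intro c
    obtain ⟨h0, h1, h2, h3, h4, h5⟩ := (cnt6_iff c.1).1 c.2
    apply Subtype.ext
    funext i
    fin_cases i
    · rfl
    · exact h1.symm
    · exact h2.symm
    · exact h3.symm
    · exact h4.symm
    · exact h5.symm
  · intro a
    rfl

end Cfsg.Agent.Lib.Lead.Mil
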