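import Mathlib
import Cfsg.Prelude.Def_ChevE7
import Cfsg.Agent.Lib.Helper82.CenZZ

/-!
# CEN ladder, rung CNT7: `ZZ chevE7 K` has `gcd (2, q - 1)` elements
-/

set_option autoImplicit false
set_option maxRecDepth 100000

namespace Cfsg.Agent.Lib.Lead.Mil

open Cfsg Cfsg.Lie

theorem cnt7_mem {K : Type*} [Field K] (c : Fin 7 → Kˣ) :
    c ∈ (ZZ chevE7 K : Set (Fin 7 → Kˣ)) ↔ ∀ s < 126,
      c 0 ^ chevE7.cartan 0 s * (c 1 ^ chevE7.cartan 1 s * (c 2 ^ chevE7.cartan 2 s *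
        (c 3 ^ chevE7.cartan 3 s * (c 4 ^ chevE7.cartan 4 s * (c 5 ^ chevE7.cartan 5 s *
          c 6 ^ chevE7.cartan 6 s))))) = 1 := by
  have h : List.finRange 7 = [0, 1, 2, 3, 4, 5, 6] := by decide
  show (∀ s < 126, ((List.finRange 7).map fun i : Fin 7 => c i ^ chevE7.cartan i s).prod = 1) ↔ _
  rw [h]
  simp only [List.map_cons, List.map_nil, List.prod_cons, List.prod_nil, mul_one]
  rfl

theorem cnt7_dvd : ∀ s < 126, (2 : ℤ) ∣ chevE7.cartan 1 s + chevE7.cartan 4 s + chevE7.cartan 6 s := by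
  decide +kernel

theorem cnt7_r0 : chevE7.cartan 0 93 = 2 ∧ chevE7.cartan 1 93 = 0 ∧ chevE7.cartan 2 93 = -1 ∧ chevE7.cartan 3 93 = 0 ∧ chevE7.cartan 4 93 = 0 ∧ chevE7.cartan 5 93 = 0 ∧ chevE7.cartan 6 93 = 0 := by
  decide +kernel

theorem cnt7_r1 : chevE7.cartan 0 78 = 0 ∧ chevE7.cartan 1 78 = 2 ∧ chevE7.cartan 2 78 = 0 ∧ chevE7.cartan 3 78 = -1 ∧ chevE7.cartan 4 78 = 0 ∧ chevE7.cartan 5 78 = 0 ∧ chevE7.cartan 6 78 = 0 := by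
  decide +kernel

theorem cnt7_r2 : chevE7.cartan 0 73 = -1 ∧ chevE7.cartan 1 73 = 0 ∧ chevE7.cartan 2 73 = 2 ∧ chevE7.cartan 3 73 = -1 ∧ chevE7.cartan 4 73 = 0 ∧ chevE7.cartan 5 73 = 0 ∧ chevE7.cartan 6 73 = 0 := by
  decide +kernel

theorem cnt7_r3 : chevE7.cartan 0 69 = 0 ∧ chevE7.cartan 1 69 = -1 ∧ chevE7.cartan 2 69 = -1 ∧ chevE7.cartan 3 69 = 2 ∧ chevE7.cartan 4 69 = -1 ∧ chevE7.cartan 5 69 = 0 ∧ chevE7.cartan 6 69 = 0 := by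
  decide +kernel

theorem cnt7_r4 : chevE7.cartan 0 66 = 0 ∧ chevE7.cartan 1 66 = 0 ∧ chevE7.cartan 2 66 = 0 ∧ chevE7.cartan 3 66 = -1 ∧ chevE7.cartan 4 66 = 2 ∧ chevE7.cartan 5 66 = -1 ∧ chevE7.cartan 6 66 = 0 := by
  decide +kernel

theorem cnt7_r5 : chevE7.cartan 0 64 = 0 ∧ chevE7.cartan 1 64 = 0 ∧ chevE7.cartan 2 64 = 0 ∧ chevE7.cartan 3 64 = 0 ∧ chevE7.cartan 4 64 = -1 ∧ chevE7.cartan 5 64 = 2 ∧ chevE7.cartan 6 64 = -1 := by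
  decide +kernel

theorem cnt7_r6 : chevE7.cartan 0 63 = 0 ∧ chevE7.cartan 1 63 = 0 ∧ chevE7.cartan 2 63 = 0 ∧ chevE7.cartan 3 63 = 0 ∧ chevE7.cartan 4 63 = 0 ∧ chevE7.cartan 5 63 = -1 ∧ chevE7.cartan 6 63 = 2 := by
  decide +kernel

theorem cnt7_iff {K : Type*} [Field K] (c : Fin 7 → Kˣ) :
    c ∈ (ZZ chevE7 K : Set (Fin 7 → Kˣ)) ↔
      (c 1 ^ 2 = 1 ∧ c 0 = 1 ∧ c 2 = 1 ∧ c 3 = 1 ∧ c 4 = c 1 ∧ c 5 = 1 ∧ c 6 = c 1) := by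
  rw [cnt7_mem]
  constructor
  · intro h
    have e1 : c 0 ^ (2 : ℤ) * (c 1 ^ (0 : ℤ) * (c 2 ^ (-1 : ℤ) * (c 3 ^ (0 : ℤ) * (c 4 ^ (0 : ℤ) *
        (c 5 ^ (0 : ℤ) * c 6 ^ (0 : ℤ)))))) = 1 := by
      have := h 93 (by norm_num)
      obtain ⟨a0, a1, a2, a3, a4, a5, a6⟩ := cnt7_r0
      rwa [a0, a1, a2, a3, a4, a5, a6] at this
    have e2 : c 0 ^ (0 : ℤ) * (c 1 ^ (2 : ℤ) * (c 2 ^ (0 : ℤ) * (c 3 ^ (-1 : ℤ) * (c 4 ^ (0 : ℤ) *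
        (c 5 ^ (0 : ℤ) * c 6 ^ (0 : ℤ)))))) = 1 := by
      have := h 78 (by norm_num)
      obtain ⟨a0, a1, a2, a3, a4, a5, a6⟩ := cnt7_r1
      rwa [a0, a1, a2, a3, a4, a5, a6] at this
    have e3 : c 0 ^ (-1 : ℤ) * (c 1 ^ (0 : ℤ) * (c 2 ^ (2 : ℤ) * (c 3 ^ (-1 : ℤ) * (c 4 ^ (0 : ℤ) *
        (c 5 ^ (0 : ℤ) * c 6 ^ (0 : ℤ)))))) = 1 := by
      have := h 73 (by norm_num)
      obtain ⟨a0, a1, a2, a3, a4, a5, a6⟩ := cnt7_r2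
      rwa [a0, a1, a2, a3, a4, a5, a6] at this
    have e4 : c 0 ^ (0 : ℤ) * (c 1 ^ (-1 : ℤ) * (c 2 ^ (-1 : ℤ) * (c 3 ^ (2 : ℤ) * (c 4 ^ (-1 : ℤ) *
        (c 5 ^ (0 : ℤ) * c 6 ^ (0 : ℤ)))))) = 1 := by
      have := h 69 (by norm_num)
      obtain ⟨a0, a1, a2, a3, a4, a5, a6⟩ := cnt7_r3
      rwa [a0, a1, a2, a3, a4, a5, a6] at this
    have e5 : c 0 ^ (0 : ℤ) * (c 1 ^ (0 : ℤ) * (c 2 ^ (0 : ℤ) * (c 3 ^ (-1 : ℤ) * (c 4 ^ (2 : ℤ) *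
        (c 5 ^ (-1 : ℤ) * c 6 ^ (0 : ℤ)))))) = 1 := by
      have := h 66 (by norm_num)
      obtain ⟨a0, a1, a2, a3, a4, a5, a6⟩ := cnt7_r4
      rwa [a0, a1, a2, a3, a4, a5, a6] at this
    have e6 : c 0 ^ (0 : ℤ) * (c 1 ^ (0 : ℤ) * (c 2 ^ (0 : ℤ) * (c 3 ^ (0 : ℤ) * (c 4 ^ (-1 : ℤ) *
        (c 5 ^ (2 : ℤ) * c 6 ^ (-1 : ℤ)))))) = 1 := by
      have := h 64 (by norm_num)
      obtain ⟨a0, a1, a2, a3, a4, a5, a6⟩ := cnt7_r5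
      rwa [a0, a1, a2, a3, a4, a5, a6] at this
    have e7 : c 0 ^ (0 : ℤ) * (c 1 ^ (0 : ℤ) * (c 2 ^ (0 : ℤ) * (c 3 ^ (0 : ℤ) * (c 4 ^ (0 : ℤ) *
        (c 5 ^ (-1 : ℤ) * c 6 ^ (2 : ℤ)))))) = 1 := by
      have := h 63 (by norm_num)
      obtain ⟨a0, a1, a2, a3, a4, a5, a6⟩ := cnt7_r6
      rwa [a0, a1, a2, a3, a4, a5, a6] at this
    replace e1 := congrArg Additive.ofMul e1
    replace e2 := congrArg Additive.ofMul e2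
    replace e3 := congrArg Additive.ofMul e3
    replace e4 := congrArg Additive.ofMul e4
    replace e5 := congrArg Additive.ofMul e5
    replace e6 := congrArg Additive.ofMul e6
    replace e7 := congrArg Additive.ofMul e7
    simp only [ofMul_mul, ofMul_zpow, ofMul_one] at e1 e2 e3 e4 e5 e6 e7
    refine ⟨?_, ?_, ?_, ?_, ?_, ?_, ?_⟩ <;> apply Additive.ofMul.injective <;>
      try simp only [ofMul_pow, ofMul_one]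
    · linear_combination (norm := module) (4 : ℤ) • e1 + (7 : ℤ) • e2 + (8 : ℤ) • e3 + (12 : ℤ) • e4 + (9 : ℤ) • e5 + (6 : ℤ) • e6 + (3 : ℤ) • e7
    · linear_combination (norm := module) (2 : ℤ) • e1 + (2 : ℤ) • e2 + (3 : ℤ) • e3 + (4 : ℤ) • e4 + (3 : ℤ) • e5 + (2 : ℤ) • e6 + (1 : ℤ) • e7
    · linear_combination (norm := module) (3 : ℤ) • e1 + (4 : ℤ) • e2 + (6 : ℤ) • e3 + (8 : ℤ) • e4 + (6 : ℤ) • e5 + (4 : ℤ) • e6 + (2 : ℤ) • e7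
    · linear_combination (norm := module) (4 : ℤ) • e1 + (6 : ℤ) • e2 + (8 : ℤ) • e3 + (12 : ℤ) • e4 + (9 : ℤ) • e5 + (6 : ℤ) • e6 + (3 : ℤ) • e7
    · linear_combination (norm := module) (1 : ℤ) • e1 + (1 : ℤ) • e2 + (2 : ℤ) • e3 + (3 : ℤ) • e4 + (3 : ℤ) • e5 + (2 : ℤ) • e6 + (1 : ℤ) • e7
    · linear_combination (norm := module) (2 : ℤ) • e1 + (3 : ℤ) • e2 + (4 : ℤ) • e3 + (6 : ℤ) • e4 + (5 : ℤ) • e5 + (4 : ℤ) • e6 + (2 : ℤ) • e7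
    · linear_combination (norm := module) (-1 : ℤ) • e1 + (-2 : ℤ) • e2 + (-2 : ℤ) • e3 + (-3 : ℤ) • e4 + (-2 : ℤ) • e5 + (-1 : ℤ) • e6 + (0 : ℤ) • e7
  · rintro ⟨h1, h0, h2, h3, h4, h5, h6⟩ s hs
    obtain ⟨m, hm⟩ := cnt7_dvd s hs
    rw [h0, h2, h3, h4, h5, h6, one_zpow, one_zpow, one_zpow, one_zpow, one_mul, one_mul, one_mul,
      one_mul, ← zpow_add, ← zpow_add]
    have : chevE7.cartan 1 s + (chevE7.cartan 4 s + chevE7.cartan 6 s) = ((2 : ℕ) : ℤ) * m := by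
      push_cast
      linarith
    rw [this, zpow_mul, zpow_natCast, h1, one_zpow]

/-- [CNT7] -/
theorem card_ZZ_E7 {K : Type*} [Field K] [Fintype K] :
    Nat.card (ZZ chevE7 K) = Nat.gcd 2 (Fintype.card K - 1) := by
  rw [← card_pow_eq_one_units 2]
  show Nat.card {c : Fin 7 → Kˣ // c ∈ (ZZ chevE7 K : Set (Fin 7 → Kˣ))} = _
  apply Nat.card_congr
  refine ⟨fun c => ⟨c.1 1, ((cnt7_iff c.1).1 c.2).1⟩,
    fun a => ⟨![1, a.1, 1, 1, a.1, 1, a.1], (cnt7_iff _).2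
      ⟨a.2, rfl, rfl, rfl, rfl, rfl, rfl⟩⟩, ?_, ?_⟩
  · intro c
    obtain ⟨h1, h0, h2, h3, h4, h5, h6⟩ := (cnt7_iff c.1).1 c.2
    apply Subtype.ext
    funext i
    fin_cases i
    · exact h0.symm
    · rfl
    · exact h2.symm
    · exact h3.symm
    · exact h4.symm
    · exact h5.symm
    · exact h6.symm
  · intro a
    rfl

end Cfsg.Agent.Lib.Lead.Mil
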